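import Mathlib
import Groth.Agent.Lib.Serre.Regular

/-!
# Ideals of finite projective dimension with free conormal summands

If `I` is an ideal of finite projective dimension of a noetherian local ring and `I/I²` has a free
summand with basis the classes of `x₁, …, x_r`, then these can be moved inside `x_i + I²` to form a
weakly regular sequence (Vasconcelos).  The free summand is recorded by functionals
`ψ i : I → R/I` dual to the `x i`.
-/

universe u

open CategoryTheory TensorProduct IsLocalRing RingTheory.Sequence GrothLib.Serre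

namespace GrothLib.Vasconcelos

variable {R : Type u} [CommRing R]

theorem eq_zero_of_mem_sq {I : Ideal R} (ψ : I →ₗ[R] R ⧸ I) {j : R} (hj : j ∈ I ^ 2) :
    ψ ⟨j, Ideal.pow_le_self two_ne_zero hj⟩ = 0 := by
  suffices h : ∀ w ∈ I * I, ∃ hw : w ∈ I, ψ ⟨w, hw⟩ = 0 by
    obtain ⟨hw, h0⟩ := h j (by rwa [← pow_two])
    exact h0
  intro w hw
  induction hw using Submodule.mul_induction_on' with
  | mem_mul_mem a ha b hb =>
    refine ⟨I.mul_mem_right b ha, ?_⟩
    rw [show (⟨a * b, I.mul_mem_right b ha⟩ : I) = a • ⟨b, hb⟩ from Subtype.ext rfl, map_smul,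
      Algebra.smul_def, Ideal.Quotient.algebraMap_eq, Ideal.Quotient.eq_zero_iff_mem.mpr ha,
      zero_mul]
  | add a _ b _ iha ihb =>
    obtain ⟨ha, ea⟩ := iha
    obtain ⟨hb, eb⟩ := ihb
    refine ⟨I.add_mem ha hb, ?_⟩
    rw [show (⟨a + b, I.add_mem ha hb⟩ : I) = ⟨a, ha⟩ + ⟨b, hb⟩ from rfl, map_add, ea, eb, add_zero]

/-- Prime avoidance for cosets. -/
theorem exists_add_notMem {J : Ideal R} {E : Set (Ideal R)} (hE : E.Finite)
    (hp : ∀ p ∈ E, p.IsPrime) (hJ : ∀ p ∈ E, ¬ J ≤ p) (x : R) :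
    ∃ y ∈ J, ∀ p ∈ E, x + y ∉ p := by
  classical
  let T := hE.toFinset.filter (fun p => x ∈ p)
  let U := hE.toFinset.filter (fun p => x ∉ p ∧ ∀ t ∈ T, ¬ p ≤ t)
  let K : Ideal R := J ⊓ U.inf id
  have hTp : ∀ t ∈ T, t ∈ E := fun t ht => hE.mem_toFinset.mp (Finset.mem_filter.mp ht).1
  have hK : ¬ ((K : Set R) ⊆ ⋃ t ∈ (↑T : Set (Ideal R)), (id t : Ideal R)) := by
    intro hsub
    obtain ⟨t, ht, hle⟩ := (Ideal.subset_union_prime (f := id) ⊥ ⊥
      (fun t ht _ _ => hp t (hTp t ht))).mp hsub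
    have htp : t.IsPrime := hp t (hTp t ht)
    have hle' : K ≤ t := hle
    rcases htp.inf_le.mp hle' with h | h
    · exact hJ t (hTp t ht) h
    · obtain ⟨q, hq, hqle⟩ := htp.inf_le'.mp h
      exact (Finset.mem_filter.mp hq).2.2 t ht hqle
  obtain ⟨y, hy, hyT⟩ := Set.not_subset.mp hK
  refine ⟨y, hy.1, fun p hpE hmem => ?_⟩
  have hyT' : ∀ t ∈ T, y ∉ t := fun t ht h => hyT (Set.mem_biUnion (Finset.mem_coe.mpr ht) h)
  by_cases hx : x ∈ p
  · exact hyT' p (Finset.mem_filter.mpr ⟨hE.mem_toFinset.mpr hpE, hx⟩)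
      (by simpa using p.sub_mem hmem hx)
  · by_cases hU : ∀ t ∈ T, ¬ p ≤ t
    · have hyp : y ∈ p :=
        (Finset.inf_le (f := id) (Finset.mem_filter.mpr ⟨hE.mem_toFinset.mpr hpE, hx, hU⟩)) hy.2
      exact hx (by simpa using p.sub_mem hmem hyp)
    · push Not at hU
      obtain ⟨t, ht, hle⟩ := hU
      exact hyT' t ht (by simpa using t.sub_mem (hle hmem) (Finset.mem_filter.mp ht).2)

/-- Localization does not increase the projective dimension of an ideal. -/
theorem pdLE_map_localization (I : Ideal R) (S : Submonoid R) {n : ℕ} (h : PdLE R I n) :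
    PdLE (Localization S) (I.map (algebraMap R (Localization S))) n := by
  haveI := h
  haveI h1 : HasProjectiveDimensionLE ((ModuleCat.of R I).localizedModule S) n :=
    ModuleCat.localizedModule_hasProjectiveDimensionLE n S (ModuleCat.of R I)
  haveI h2 : HasProjectiveDimensionLE (ModuleCat.of (Localization S) (LocalizedModule S I)) n :=
    ModuleCat.hasProjectiveDimensionLE_of_linearEquiv
      (M := (ModuleCat.of R I).localizedModule S) (N := ModuleCat.of (Localization S) (LocalizedModule S I))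
      (Shrink.linearEquiv _ _) n
  exact (pdLE_congr ((IsLocalizedModule.iso S (Algebra.idealMap (Localization S) I))
    |>.extendScalarsOfIsLocalization S (Localization S)) n).mp h2

variable [IsNoetherianRing R]

/-- An ideal of finite projective dimension with a rank one free conormal summand contains a
non-zero-divisor in any prescribed class. -/
theorem exists_nonZeroDivisor_add (I : Ideal R) (n : ℕ) (h : PdLE R I n) (x₀ : R) (hx₀ : x₀ ∈ I)
    (ψ : I →ₗ[R] R ⧸ I) (hψ : ψ ⟨x₀, hx₀⟩ = 1) :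
    ∃ j ∈ I ^ 2, x₀ + j ∈ nonZeroDivisors R := by
  have key : ∀ p ∈ associatedPrimes R R, ¬ I ≤ p := by
    intro p hp hle
    haveI := hp.isPrime
    let Rp := Localization.AtPrime p
    have hm : IsLocalRing.maximalIdeal Rp ∈ associatedPrimes Rp (LocalizedModule p.primeCompl R) :=
      Module.associatedPrimes.mem_associatedPrimes_atPrime_of_mem_associatedPrimes hp
    obtain ⟨-, f, hf⟩ := (isAssociatedPrime_iff_exists_injective_linearMap _ _).1 hm
    let e : LocalizedModule p.primeCompl R ≃ₗ[Rp] Rp :=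
      (IsLocalizedModule.iso p.primeCompl (Algebra.linearMap R Rp)).extendScalarsOfIsLocalization
        p.primeCompl Rp
    let g : (Rp ⧸ IsLocalRing.maximalIdeal Rp) →ₗ[Rp] Rp := e.toLinearMap ∘ₗ f
    have hg : Function.Injective g := e.injective.comp hf
    let s : Rp := g (Ideal.Quotient.mk _ 1)
    have hs : s ≠ 0 := fun h0 => (IsLocalRing.maximalIdeal.isMaximal Rp).ne_top
      ((Ideal.eq_top_iff_one _).mpr (Ideal.Quotient.eq_zero_iff_mem.mp
        (hg (h0.trans (map_zero g).symm))))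
    have hms : ∀ a ∈ IsLocalRing.maximalIdeal Rp, s * a = 0 := by
      intro a ha
      rw [mul_comm, ← smul_eq_mul, ← map_smul, Algebra.smul_def, map_one, mul_one,
        Ideal.Quotient.algebraMap_eq, Ideal.Quotient.eq_zero_iff_mem.mpr ha, map_zero]
    let I' : Ideal Rp := I.map (algebraMap R Rp)
    haveI : Module.Free Rp I' := free_of_pdLE_of_socle hs hms n (pdLE_map_localization I p.primeCompl h)
    have hI'm : I' ≤ IsLocalRing.maximalIdeal Rp := by
      rw [← Localization.AtPrime.map_eq_maximalIdeal]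
      exact Ideal.map_mono hle
    have h0 : algebraMap R Rp x₀ = 0 := by
      by_contra hne
      let b := Module.Free.chooseBasis Rp I'
      rcases isEmpty_or_nonempty (Module.Free.ChooseBasisIndex Rp I') with he | ⟨⟨i⟩⟩
      · haveI : Subsingleton I' := b.repr.toEquiv.subsingleton
        exact hne (congrArg Subtype.val
          (Subsingleton.elim (⟨_, Ideal.mem_map_of_mem _ hx₀⟩ : I') 0))
      · have h1 : s • b i = 0 := Subtype.ext (hms _ (hI'm (b i).2))
        have h2 := congrArg b.repr h1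
        rw [map_smul, map_zero, b.repr_self, Finsupp.smul_single, smul_eq_mul, mul_one] at h2
        exact hs (Finsupp.single_eq_zero.mp h2)
    obtain ⟨⟨t, ht⟩, ht0⟩ := (IsLocalization.map_eq_zero_iff p.primeCompl Rp x₀).mp h0
    have h3 : (⟨t * x₀, I.mul_mem_left t hx₀⟩ : I) = 0 := Subtype.ext ht0
    have h4 := congrArg ψ h3
    rw [show (⟨t * x₀, I.mul_mem_left t hx₀⟩ : I) = t • ⟨x₀, hx₀⟩ from rfl, map_smul, hψ,
      map_zero, Algebra.smul_def, mul_one, Ideal.Quotient.algebraMap_eq,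
      Ideal.Quotient.eq_zero_iff_mem] at h4
    exact ht (hle h4)
  obtain ⟨j, hj, havoid⟩ := exists_add_notMem (J := I ^ 2) (associatedPrimes.finite R R)
    (fun p hp => hp.isPrime) (fun p hp hle => by
      haveI := hp.isPrime
      exact key p hp ((Ideal.IsPrime.pow_le_iff two_ne_zero).mp hle)) x₀
  refine ⟨j, hj, mem_nonZeroDivisors_iff_right.mpr fun z hz => ?_⟩
  have hreg : IsSMulRegular R (x₀ + j) := by
    by_contra hc
    have hc' : x₀ + j ∈ {r : R | IsSMulRegular R r}ᶜ := hc
    rw [← biUnion_associatedPrimes_eq_compl_regular, Set.mem_iUnion₂] at hc'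
    obtain ⟨P, hP, hmem⟩ := hc'
    exact havoid P hP hmem
  exact hreg (show (x₀ + j) • z = (x₀ + j) • (0 : R) by rw [smul_zero, smul_eq_mul, mul_comm, hz])

/-- One step of the induction: pass to `R/(y)`. -/
theorem pdLE_map_quotient [IsLocalRing R] (I : Ideal R) (hI : I ≠ ⊤) (n : ℕ) (h : PdLE R I n)
    (y : R) (hy : y ∈ I) (hyR : IsSMulRegular R y) (ψ : I →ₗ[R] R ⧸ I) (hψ : ψ ⟨y, hy⟩ = 1) :
    PdLE (R ⧸ Ideal.span {y}) (I.map (algebraMap R (R ⧸ Ideal.span {y}))) n := by
  let R' := R ⧸ Ideal.span {y}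
  have hym : y ∈ IsLocalRing.maximalIdeal R := IsLocalRing.le_maximalIdeal hI hy
  have hyI : IsSMulRegular I y := fun a b hab => Subtype.ext (hyR (congrArg Subtype.val hab))
  have hy0 : ∀ z : R' ⊗[R] I, y • z = 0 := by
    intro z
    induction z with
    | zero => simp
    | tmul a b =>
      have : y • a = 0 := by
        obtain ⟨a, rfl⟩ := Ideal.Quotient.mk_surjective a
        rw [Algebra.smul_def, Ideal.Quotient.algebraMap_eq, ← map_mul]
        exact Ideal.Quotient.eq_zero_iff_mem.mpr (Ideal.mul_mem_right _ _ (Ideal.mem_span_singleton_self y))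
      rw [TensorProduct.smul_tmul', this, zero_tmul]
    | add a b ha hb => rw [smul_add, ha, hb, add_zero]
  let one : R' := 1
  let θ : (R ⧸ I) →ₗ[R] R' ⊗[R] I :=
    Submodule.liftQ I (LinearMap.toSpanSingleton R _ (one ⊗ₜ[R] (⟨y, hy⟩ : I))) fun j hj => by
      rw [LinearMap.mem_ker, LinearMap.toSpanSingleton_apply,
        ← TensorProduct.tmul_smul, show j • (⟨y, hy⟩ : I) = y • ⟨j, hj⟩ from Subtype.ext (mul_comm j y),
        TensorProduct.tmul_smul]
      exact hy0 _
  let g : I →ₗ[R] R' ⊗[R] I := TensorProduct.mk R R' I one - θ ∘ₗ ψ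
  let q : R' ⊗[R] I →ₗ[R'] I.map (algebraMap R R') := (Algebra.idealMap R' I).liftBaseChange R'
  have hsurj : Function.Surjective (Algebra.idealMap R' I) := fun z => by
    obtain ⟨i, hi, e⟩ := (Ideal.mem_map_iff_of_surjective _ Ideal.Quotient.mk_surjective).mp z.2
    exact ⟨⟨i, hi⟩, Subtype.ext e⟩
  have hker : LinearMap.ker (Algebra.idealMap R' I) ≤ LinearMap.ker g := by
    intro i hi
    obtain ⟨a, ha⟩ := Ideal.mem_span_singleton'.mp
      (Ideal.Quotient.eq_zero_iff_mem.mp (congrArg Subtype.val hi : algebraMap R R' (i : R) = 0))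
    have hi' : i = a • (⟨y, hy⟩ : I) := Subtype.ext ha.symm
    rw [LinearMap.mem_ker, hi', map_smul]
    show a • (one ⊗ₜ[R] (⟨y, hy⟩ : I) - θ (ψ ⟨y, hy⟩)) = 0
    rw [hψ, show θ (1 : R ⧸ I) = (1 : R) • (one ⊗ₜ[R] (⟨y, hy⟩ : I)) from rfl, one_smul, sub_self,
      smul_zero]
  let s₀ : I.map (algebraMap R R') →ₗ[R] R' ⊗[R] I :=
    (LinearMap.ker (Algebra.idealMap R' I)).liftQ g hker ∘ₗ
      ((Algebra.idealMap R' I).quotKerEquivOfSurjective hsurj).symm.toLinearMap
  let s : I.map (algebraMap R R') →ₗ[R'] R' ⊗[R] I :=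
    s₀.extendScalarsOfSurjective Ideal.Quotient.mk_surjective
  have hqs : q ∘ₗ s = LinearMap.id := LinearMap.ext fun z => by
    obtain ⟨i, rfl⟩ := hsurj z
    have h1 : s (Algebra.idealMap R' I i) = g i := by
      show s₀ (Algebra.idealMap R' I i) = g i
      simp only [s₀, LinearMap.comp_apply, LinearEquiv.coe_coe]
      rw [show ((Algebra.idealMap R' I).quotKerEquivOfSurjective hsurj).symm (Algebra.idealMap R' I i)
        = Submodule.Quotient.mk i from
          (LinearEquiv.symm_apply_eq _).mpr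
            (LinearMap.quotKerEquivOfSurjective_apply_mk _ hsurj i).symm]
      rfl
    rw [LinearMap.comp_apply, h1, LinearMap.id_apply]
    obtain ⟨c, hc⟩ := Ideal.Quotient.mk_surjective (ψ i)
    show q (one ⊗ₜ[R] i - θ (ψ i)) = _
    rw [← hc, show θ (Ideal.Quotient.mk I c) = c • (one ⊗ₜ[R] (⟨y, hy⟩ : I)) from rfl, map_sub,
      ← IsScalarTower.algebraMap_smul R' c, map_smul, LinearMap.liftBaseChange_tmul,
      LinearMap.liftBaseChange_tmul, one_smul, one_smul,
      show Algebra.idealMap R' I ⟨y, hy⟩ = 0 from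
        Subtype.ext (Ideal.Quotient.eq_zero_iff_mem.mpr (Ideal.mem_span_singleton_self y)),
      smul_zero, sub_zero]
  exact pdLE_of_retract s q hqs ((pdLE_quotient_iff hym hyR n hyI).mp h)

theorem exists_weaklyRegular : ∀ (r : ℕ) (R : Type u) [CommRing R] [IsNoetherianRing R] [IsLocalRing R]
    (I : Ideal R) (_ : I ≠ ⊤) (n : ℕ) (_ : PdLE R I n) (x : Fin r → R) (hx : ∀ i, x i ∈ I)
    (ψ : Fin r → (I →ₗ[R] R ⧸ I)) (_ : ∀ i j, ψ i ⟨x j, hx j⟩ = if i = j then 1 else 0),
    ∃ y : Fin r → R, (∀ i, y i - x i ∈ I ^ 2) ∧ IsWeaklyRegular R (List.ofFn y) := by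
  intro r
  induction r with
  | zero => exact fun R _ _ _ I hI n h x hx ψ hψ => ⟨x, fun i => i.elim0, by simp⟩
  | succ r ih =>
    intro R _ _ _ I hI n h x hx ψ hψ
    obtain ⟨j, hj, hnzd⟩ := exists_nonZeroDivisor_add I n h (x 0) (hx 0) (ψ 0)
      ((hψ 0 0).trans (if_pos rfl))
    let y₀ := x 0 + j
    have hy₀ : y₀ ∈ I := I.add_mem (hx 0) (Ideal.pow_le_self two_ne_zero hj)
    have hψy : ∀ i, ψ i ⟨y₀, hy₀⟩ = if i = 0 then 1 else 0 := fun i => by
      rw [show (⟨y₀, hy₀⟩ : I) = ⟨x 0, hx 0⟩ + ⟨j, Ideal.pow_le_self two_ne_zero hj⟩ from rfl,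
        map_add, hψ, eq_zero_of_mem_sq _ hj, add_zero]
    have hreg : IsSMulRegular R y₀ := fun a b hab =>
      (mem_nonZeroDivisors_iff_right.mp hnzd (a - b) (by
        rw [sub_mul, mul_comm a, mul_comm b, sub_eq_zero]; exact hab)) |> sub_eq_zero.mp
    let R' := R ⧸ Ideal.span {y₀}
    let I' := I.map (algebraMap R R')
    have hle : Ideal.span {y₀} ≤ I := (Ideal.span_singleton_le_iff_mem _).mpr hy₀
    have hcomap : Ideal.comap (algebraMap R R') I' = I := by
      rw [Ideal.comap_map_of_surjective (algebraMap R R') Ideal.Quotient.mk_surjective,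
        ← RingHom.ker_eq_comap_bot]
      exact sup_eq_left.mpr ((Ideal.mk_ker (I := Ideal.span {y₀})).trans_le hle)
    have hI' : I' ≠ ⊤ := fun e => hI (by rw [← hcomap, e, Ideal.comap_top])
    haveI : Nontrivial R' := Ideal.Quotient.nontrivial_iff.mpr fun e => hI (top_le_iff.mp (e ▸ hle))
    haveI : IsLocalRing R' := .of_surjective' _ Ideal.Quotient.mk_surjective
    have hpd := pdLE_map_quotient I hI n h y₀ hy₀ hreg (ψ 0) ((hψy 0).trans (if_pos rfl))
    have hsurj : Function.Surjective (Algebra.idealMap R' I) := fun z => by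
      obtain ⟨i, hi, e⟩ := (Ideal.mem_map_iff_of_surjective _ Ideal.Quotient.mk_surjective).mp z.2
      exact ⟨⟨i, hi⟩, Subtype.ext e⟩
    let π : (R ⧸ I) →ₗ[R] R' ⧸ I' :=
      Submodule.liftQ I ((Algebra.linearMap R (R' ⧸ I'))) fun i hi => by
        rw [LinearMap.mem_ker, Algebra.linearMap_apply, IsScalarTower.algebraMap_apply R R' (R' ⧸ I'),
          Ideal.Quotient.algebraMap_eq]
        exact Ideal.Quotient.eq_zero_iff_mem.mpr (Ideal.mem_map_of_mem _ hi)
    let φ : Fin r → (I' →ₗ[R'] R' ⧸ I') := fun i =>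
      ((LinearMap.ker (Algebra.idealMap R' I)).liftQ (π ∘ₗ ψ i.succ) (fun z hz => by
        obtain ⟨a, ha⟩ := Ideal.mem_span_singleton'.mp
          (Ideal.Quotient.eq_zero_iff_mem.mp (congrArg Subtype.val hz : algebraMap R R' (z : R) = 0))
        rw [LinearMap.mem_ker, show z = a • (⟨y₀, hy₀⟩ : I) from Subtype.ext ha.symm, map_smul,
          LinearMap.comp_apply, hψy, if_neg (Fin.succ_ne_zero i), map_zero, smul_zero]) ∘ₗ
        ((Algebra.idealMap R' I).quotKerEquivOfSurjective hsurj).symm.toLinearMap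
        ).extendScalarsOfSurjective Ideal.Quotient.mk_surjective
    have hφ : ∀ i (z : I), φ i (Algebra.idealMap R' I z) = π (ψ i.succ z) := by
      intro i z
      simp only [φ, LinearMap.extendScalarsOfSurjective_apply, LinearMap.comp_apply, LinearEquiv.coe_coe]
      rw [show ((Algebra.idealMap R' I).quotKerEquivOfSurjective hsurj).symm (Algebra.idealMap R' I z)
        = Submodule.Quotient.mk z from
          (LinearEquiv.symm_apply_eq _).mpr
            (LinearMap.quotKerEquivOfSurjective_apply_mk _ hsurj z).symm]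
      rfl
    let x' : Fin r → R' := fun i => algebraMap R R' (x i.succ)
    have hx' : ∀ i, x' i ∈ I' := fun i => Ideal.mem_map_of_mem _ (hx i.succ)
    have hδ : ∀ i k, φ i ⟨x' k, hx' k⟩ = if i = k then 1 else 0 := fun i k => by
      rw [show (⟨x' k, hx' k⟩ : I') = Algebra.idealMap R' I ⟨x k.succ, hx k.succ⟩ from Subtype.ext rfl,
        hφ, hψ]
      by_cases hik : i = k
      · rw [if_pos hik, if_pos (congrArg Fin.succ hik)]
        show π (Submodule.Quotient.mk (1 : R)) = 1
        rw [Submodule.liftQ_apply, Algebra.linearMap_apply, map_one]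
      · rw [if_neg hik, if_neg (fun e => hik (Fin.succ_injective _ e)), map_zero]
    obtain ⟨y', hy', hw⟩ := ih R' I' hI' n hpd x' hx' φ hδ
    have hex : ∀ i, ∃ a : R, a - x i.succ ∈ I ^ 2 ∧ algebraMap R R' a = y' i := by
      intro i
      have := hy' i
      rw [← Ideal.map_pow] at this
      obtain ⟨a, ha, e⟩ := (Ideal.mem_map_iff_of_surjective _ Ideal.Quotient.mk_surjective).mp this
      have e' : algebraMap R R' a = y' i - x' i := e
      exact ⟨x i.succ + a, by simpa using ha, by rw [map_add, e']; exact add_sub_cancel _ _⟩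
    choose a ha hea using hex
    refine ⟨Fin.cons y₀ a, fun i => ?_, ?_⟩
    · induction i using Fin.cases with
      | zero => simpa [y₀] using hj
      | succ i => simpa using ha i
    · rw [List.ofFn_succ, Fin.cons_zero]
      simp only [Fin.cons_succ]
      rw [isWeaklyRegular_cons_iff]
      refine ⟨hreg, ?_⟩
      let e : QuotSMulTop y₀ R ≃ₗ[R] R' :=
        Submodule.quotEquivOfEq _ _ (by
          rw [← Submodule.ideal_span_singleton_smul, smul_eq_mul, Ideal.mul_top])
      rw [e.isWeaklyRegular_congr, ← isWeaklyRegular_map_algebraMap_iff R' R', List.map_ofFn]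
      rwa [show (algebraMap R R') ∘ a = y' from funext hea]

end GrothLib.Vasconcelos
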