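import Mathlib
import Groth.Agent.Lib.Vasconcelos.Basic

/-!
# Projectivity of the conormal module localizes
-/

universe u

namespace GrothLib.Vasconcelos

variable {R : Type u} [CommRing R] [IsNoetherianRing R]

theorem projective_cotangent_map (I : Ideal R) [Module.Projective (R ⧸ I) I.Cotangent]
    (S : Submonoid R) (A : Type u) [CommRing A] [Algebra R A] [IsLocalization S A] :
    Module.Projective (A ⧸ I.map (algebraMap R A)) (I.map (algebraMap R A)).Cotangent := by
  let I' := I.map (algebraMap R A)
  haveI : Module.Finite R I.Cotangent := Module.Finite.of_surjective I.toCotangent I.toCotangent_surjective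
  haveI : Module.Finite (R ⧸ I) I.Cotangent := .of_restrictScalars_finite R _ _
  obtain ⟨N, π, hπ⟩ := Module.Finite.exists_fin' (R ⧸ I) I.Cotangent
  obtain ⟨s, hs⟩ := Module.projective_lifting_property π LinearMap.id hπ
  choose a ha using fun k => I.toCotangent_surjective (π (Pi.single k 1))
  let q : (R ⧸ I) →ₗ[R] A ⧸ I' :=
    Submodule.liftQ I (Algebra.linearMap R (A ⧸ I')) fun i hi => by
      rw [LinearMap.mem_ker, Algebra.linearMap_apply, IsScalarTower.algebraMap_apply R A (A ⧸ I'),
        Ideal.Quotient.algebraMap_eq]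
      exact Ideal.Quotient.eq_zero_iff_mem.mpr (Ideal.mem_map_of_mem _ hi)
  let φ : Fin N → (I →ₗ[R] R ⧸ I) := fun k =>
    ((LinearMap.proj k ∘ₗ s).restrictScalars R) ∘ₗ I.toCotangent
  have hunit : ∀ x : S, IsUnit ((algebraMap R (Module.End R (A ⧸ I'))) x) := fun x => by
    have := (IsLocalization.map_units A x).map (Algebra.lsmul R R (A ⧸ I') : A →ₐ[R] _)
    rwa [AlgHom.commutes] at this
  let Φ : Fin N → (I' →ₗ[A] A ⧸ I') := fun k =>
    (IsLocalizedModule.lift S (Algebra.idealMap A I) (q ∘ₗ φ k) hunit).extendScalarsOfIsLocalization S A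
  have hΦ : ∀ k (i : I), Φ k (Algebra.idealMap A I i) = q (φ k i) := fun k i =>
    IsLocalizedModule.lift_apply S (Algebra.idealMap A I) (q ∘ₗ φ k) hunit i
  let σ : I'.Cotangent →ₗ[A] (Fin N → A ⧸ I') := Ideal.Cotangent.lift (LinearMap.pi Φ) fun x y => by
    funext k
    show Φ k (x * y) = 0
    rw [show (x * y : I') = (x : A) • y from rfl, map_smul, Algebra.smul_def,
      Ideal.Quotient.algebraMap_eq, Ideal.Quotient.eq_zero_iff_mem.mpr x.2, zero_mul]
  let a' : Fin N → I'.Cotangent := fun k => I'.toCotangent (Algebra.idealMap A I (a k))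
  let ρ : (Fin N → A ⧸ I') →ₗ[A ⧸ I'] I'.Cotangent := Fintype.linearCombination (A ⧸ I') a'
  refine Module.Projective.of_split (σ.extendScalarsOfSurjective Ideal.Quotient.mk_surjective) ρ ?_
  have key : (ρ.restrictScalars A ∘ₗ σ ∘ₗ I'.toCotangent).restrictScalars R ∘ₗ Algebra.idealMap A I =
      I'.toCotangent.restrictScalars R ∘ₗ Algebra.idealMap A I := by
    refine LinearMap.ext fun i => ?_
    have h1 : I.toCotangent i = ∑ k, φ k i • π (Pi.single k 1) := by
      simp only [← map_smul, ← Pi.single_smul, smul_eq_mul, mul_one, ← map_sum,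
        Finset.univ_sum_single (fun k => φ k i)]
      exact (LinearMap.congr_fun hs (I.toCotangent i)).symm
    choose c hc using fun k => Ideal.Quotient.mk_surjective (φ k i)
    have h2 : (i : R) - ∑ k, c k * (a k : R) ∈ I ^ 2 := by
      have : I.toCotangent i = I.toCotangent (∑ k, c k • a k) := by
        rw [h1, map_sum]
        refine Finset.sum_congr rfl fun k _ => ?_
        rw [map_smul, ha, ← hc k, ← Ideal.Quotient.algebraMap_eq, algebraMap_smul]
      simpa [Submodule.coe_sum] using (Ideal.toCotangent_eq I).mp this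
    show ρ (σ (I'.toCotangent (Algebra.idealMap A I i))) = I'.toCotangent (Algebra.idealMap A I i)
    have h3 : σ (I'.toCotangent (Algebra.idealMap A I i)) = fun k => algebraMap R (A ⧸ I') (c k) := by
      funext k
      show Φ k (Algebra.idealMap A I i) = _
      rw [hΦ, ← hc k]
      rfl
    rw [h3]
    show ∑ k, algebraMap R (A ⧸ I') (c k) • a' k = _
    have h4 : ∀ k, algebraMap R (A ⧸ I') (c k) • a' k =
        I'.toCotangent (algebraMap R A (c k) • Algebra.idealMap A I (a k)) := fun k => by
      rw [map_smul, IsScalarTower.algebraMap_apply R A (A ⧸ I'), algebraMap_smul]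
    simp only [h4, ← map_sum]
    refine (Ideal.toCotangent_eq I').mpr ?_
    have h5 := Ideal.mem_map_of_mem (algebraMap R A) h2
    rw [Ideal.map_pow] at h5
    rw [← neg_mem_iff, neg_sub]
    convert h5 using 1
    simp [Submodule.coe_sum, Algebra.smul_def]
  have key2 := IsLocalizedModule.ext S (Algebra.idealMap A I)
    (fun x => by
      have := (IsLocalization.map_units A x).map (Algebra.lsmul R R I'.Cotangent : A →ₐ[R] _)
      rwa [AlgHom.commutes] at this) key
  refine LinearMap.ext fun z => ?_
  obtain ⟨z, rfl⟩ := I'.toCotangent_surjective z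
  exact LinearMap.congr_fun key2 z

end GrothLib.Vasconcelos
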